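import Cfsg.Agent.FixOdd.Gates
import Cfsg.Agent.FixOdd.Smith
import Cfsg.Agent.FixOdd.TwOf
import Cfsg.Agent.FixBN.FixSplit
import Cfsg.Agent.BpGate.Main
import Cfsg.Agent.BpTab.Rows

/-!
# Groups with a split (B,N)-pair: the fixed points of an automorphism of prime order `r ≠ p`

`gate` : the Sylow `p`-subgroups of `C_K(x)` form a chamber system with gates; `good` : `Good r C_K(x)` if the
normalisers of the Sylow `p`-subgroups are solvable; `bps_two` : `BpS r K` if `p = 2`.
-/

set_option autoImplicit false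
set_option linter.unusedSectionVars false

open scoped Pointwise

namespace Cfsg.Agent.FixOdd.Inst

open Cfsg.Agent.Tits.Core Cfsg.Agent.Tits.Core.Bldg Cfsg.Agent.Tits.OfBN Cfsg.Agent.Schreier.BNSch
open Cfsg.Agent.FixBN (HasSplit Split) 
open Cfsg.Agent.FixBN.Gates (GSys)
open Cfsg.Agent.BpGate (Inter)
open Cfsg.Agent.BpTab Cfsg.Agent.Schreier.Basic

universe u

variable {K : Type*} [Group K] [Finite K] {p r : ℕ} [hp : Fact p.Prime] [hr : Fact r.Prime]

/-- **The gate system** of the fixed points. -/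
theorem gate (hrp : r ≠ p) (h : HasSplit p K) (x : MulAut K) (hx : x ^ r = 1) :
    ∃ (Pa : Set (Set (Sylow p ↥(fixedSubgroup x)))) (d : Sylow p ↥(fixedSubgroup x) → Sylow p ↥(fixedSubgroup x) → ℕ),
      GSys Pa d ∧ Inter Pa ∧ ∃ a b : Sylow p ↥(fixedSubgroup x), (a : Subgroup ↥(fixedSubgroup x)) ⊓ b = ⊥ := by
  obtain ⟨P, U, -, h⟩ := h
  have hN : ((P.B ⊓ P.N).subgroupOf P.N).Normal := normal_subgroupOf P
  obtain ⟨M, cs, hcs⟩ := S0320.result P
  obtain ⟨t, ht, hto⟩ := exists_tw h (Equiv.refl P.S) cs hcs x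
  have hI : Finite P.S := FixBN.OfBN.finite_I (Equiv.refl P.S)
  have hth := thick P (Equiv.refl P.S) cs hcs
  have ho : t.Ord r := ⟨by rw [ht]; exact hx, hto r hx⟩
  have hcent : t.cent = fixedSubgroup x := by
    ext g
    rw [t.mem_cent, ht]
    exact Iff.rfl
  let S := FixBN.OfBN.sys (Equiv.refl P.S) cs hcs h
  have hU : t.HU S := fun V hV hVp => Tw.exists_UR_smith S hth ho hV hVp
  rw [← hcent]
  exact ⟨t.Pas S, t.dd S, Tw.gsys S hth hU ho hrp, Tw.inter S hth, Tw.opp S hth hU ho hrp⟩

/-- `Good r C_K(x)` if the normalisers of the Sylow `p`-subgroups of `C_K(x)` are solvable. -/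
theorem good (hrp : r ≠ p) (h : HasSplit p K) (x : MulAut K) (hx : x ^ r = 1)
    (hS : ∀ J : Subgroup ↥(fixedSubgroup x), IsComponent J → Sch (↥J ⧸ Subgroup.center ↥J))
    (a : Sylow p ↥(fixedSubgroup x))
    (hN : Group.IsSolvable ↥(Subgroup.normalizer ((a : Subgroup ↥(fixedSubgroup x)) : Set ↥(fixedSubgroup x)))) :
    Good r ↥(fixedSubgroup x) := by
  obtain ⟨Pa, d, hG, hI, hopp⟩ := gate hrp h x hx
  exact BpGate.good_of_isSolvable hG hI hopp hS a hN

/-- Feit–Thompson -/
def FT : Prop := ∀ (X : Type u) [Group X] [Finite X], Odd (Nat.card X) → Group.IsSolvable X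

/-- The normaliser of a Sylow `2`-subgroup is solvable. -/
theorem isSolvable_normalizer {H : Type u} [Group H] [Finite H] (hFT : FT.{u}) (a : Sylow 2 H) :
    Group.IsSolvable ↥(Subgroup.normalizer ((a : Subgroup H) : Set H)) := by
  set N := Subgroup.normalizer ((a : Subgroup H) : Set H) with hN
  have hle : (a : Subgroup H) ≤ N := Subgroup.le_normalizer
  have hn : ((a : Subgroup H).subgroupOf N).Normal := Subgroup.normal_in_normalizer
  rw [Group.isSolvable_iff_subgroup_quotient ((a : Subgroup H).subgroupOf N)]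
  constructor
  · have h1 : IsPGroup 2 ↥((a : Subgroup H).subgroupOf N) := a.isPGroup'.comap_subtype
    have : Fact (Nat.Prime 2) := ⟨Nat.prime_two⟩
    have h2 : Group.IsNilpotent ↥((a : Subgroup H).subgroupOf N) := h1.isNilpotent
    infer_instance
  · apply hFT
    have : Fact (Nat.Prime 2) := ⟨Nat.prime_two⟩
    have h1 : ¬ 2 ∣ (a : Subgroup H).index := a.not_dvd_index
    have h2 : Nat.card (↥N ⧸ (a : Subgroup H).subgroupOf N) ∣ (a : Subgroup H).index := by
      rw [← Subgroup.index_eq_card]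
      exact Subgroup.relIndex_dvd_index_of_le hle
    rw [← Nat.not_even_iff_odd, even_iff_two_dvd]
    exact fun h3 => h1 (h3.trans h2)

/-- the Schreier property of all the finite simple groups -/
def AllSch : Prop := ∀ (X : Type u) [Group X] [Finite X] [IsSimpleGroup X], ¬ IsMulCommutative X → Sch X

/-- the Schreier property of the components, from the simple groups -/
theorem sch_component {H : Type u} [Group H] [Finite H] (hSch : AllSch.{u}) {J : Subgroup H} (hJ : IsComponent J) :
    Sch (↥J ⧸ Subgroup.center ↥J) := by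
  have hs := hJ.2.2
  refine hSch _ fun hc => ?_
  have h1 : commutator ↥J ≤ Subgroup.center ↥J := by
    rw [commutator_def, Subgroup.commutator_le]
    intro x _ y _
    rw [← QuotientGroup.eq_one_iff, commutatorElement_def, QuotientGroup.mk_mul, QuotientGroup.mk_mul,
      QuotientGroup.mk_mul, QuotientGroup.mk_inv, QuotientGroup.mk_inv,
      hc.is_comm.comm (QuotientGroup.mk x : ↥J ⧸ Subgroup.center ↥J) (QuotientGroup.mk y)]
    group
  rw [hJ.2.1.commutator_eq_top] at h1
  obtain ⟨x, hx⟩ := exists_ne (1 : ↥J ⧸ Subgroup.center ↥J)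
  obtain ⟨x, rfl⟩ := QuotientGroup.mk_surjective x
  exact hx ((QuotientGroup.eq_one_iff _).2 (h1 trivial))

/-- **`p = 2`**: all the automorphisms of odd prime order. -/
theorem bps_two {K : Type u} [Group K] [Finite K] (hr2 : r ≠ 2) (h : HasSplit 2 K) (hFT : FT.{u})
    (hSch : AllSch.{u}) : BpS r K := by
  have : Fact (Nat.Prime 2) := ⟨Nat.prime_two⟩
  intro x hx
  obtain ⟨a⟩ : Nonempty (Sylow 2 ↥(fixedSubgroup x)) := inferInstance
  exact good hr2 h x (by rw [← hx]; exact pow_orderOf_eq_one x) (fun J hJ => sch_component hSch hJ) a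
    (isSolvable_normalizer hFT a)

end Cfsg.Agent.FixOdd.Inst
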